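import Mathlib
import Cfsg.Agent.Lib.Helper79.CS3.EndDefs

/-!
# CS3 (S4284), part END, package [E1]
-/

set_option autoImplicit false

namespace Cfsg.Agent.Lib.Helper10.CS3

open Cfsg.Agent.Lib.Helper81.CS3 Cfsg.Agent.Lib.Helper79.CS3

universe u

theorem card_mul_relIndex' {G : Type*} [Group G] {H K : Subgroup G} (h : H ≤ K) :
    Nat.card H * H.relIndex K = Nat.card K := by
  have h0 := (H.subgroupOf K).card_mul_index
  rw [Nat.card_congr (Subgroup.subgroupOfEquivOfLe h).toEquiv] at h0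
  exact h0

/-- `|Q : Q ⊓ C|` divides `|G : C|` when `Q` is normal. -/
theorem relIndex_dvd_index_of_normal_right {G : Type*} [Group G] [Finite G] (C Q : Subgroup G)
    [Q.Normal] : C.relIndex Q ∣ C.index := by
  have h1 : Q.relIndex (C ⊔ Q) = Q.relIndex C := Subgroup.relIndex_sup_right C Q
  have h3 := Subgroup.relIndex_mul_index (le_sup_left : C ≤ C ⊔ Q)
  have hQJ := card_mul_relIndex' (le_sup_right : Q ≤ C ⊔ Q)
  have hCJ := card_mul_relIndex' (le_sup_left : C ≤ C ⊔ Q)
  have hIC := card_mul_relIndex' (inf_le_right : Q ⊓ C ≤ C)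
  have hIQ := card_mul_relIndex' (inf_le_right : C ⊓ Q ≤ Q)
  rw [Subgroup.inf_relIndex_right] at hIQ hIC
  have e : Nat.card ↥(Q ⊓ C) = Nat.card ↥(C ⊓ Q) := by rw [inf_comm]
  have ha : 0 < Nat.card ↥(C ⊓ Q) := Nat.card_pos
  have hr2 : 0 < Q.relIndex C := Nat.pos_of_ne_zero Subgroup.index_ne_zero_of_finite
  have key : Nat.card ↥(C ⊓ Q) * Q.relIndex C * C.relIndex Q =
      Nat.card ↥(C ⊓ Q) * Q.relIndex C * C.relIndex (C ⊔ Q) := by
    calc Nat.card ↥(C ⊓ Q) * Q.relIndex C * C.relIndex Q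
        = (Nat.card ↥(C ⊓ Q) * C.relIndex Q) * Q.relIndex C := by ring
      _ = Nat.card Q * Q.relIndex (C ⊔ Q) := by rw [hIQ, h1]
      _ = Nat.card ↥(C ⊔ Q) := hQJ
      _ = Nat.card C * C.relIndex (C ⊔ Q) := hCJ.symm
      _ = Nat.card ↥(C ⊓ Q) * Q.relIndex C * C.relIndex (C ⊔ Q) := by rw [← hIC, e]
  have h4 := Nat.eq_of_mul_eq_mul_left (Nat.mul_pos ha hr2) key
  rw [h4]
  exact Dvd.intro _ h3

theorem pkgE1 : PkgE1.{u} := by
  intro G _ _ m n Q L hS x
  obtain ⟨hyp, qn, qc, qm, qi, -, -⟩ := hS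
  obtain ⟨-, hm1, hn1, hmn, hrange⟩ := hyp
  haveI := qn
  have hx3 : (Subgroup.centralizer ({x} : Set G)).index ∈ ({1, m, m * n} : Set ℕ) := by
    rw [← hrange]
    exact ⟨x, rfl⟩
  constructor
  · intro hx
    have hle : Q ≤ Subgroup.centralizer ({x} : Set G) := by
      intro q hq
      rw [Subgroup.mem_centralizer_singleton_iff]
      exact Subgroup.mem_centralizer_iff.mp hx q hq
    have hdvd := Subgroup.index_dvd_of_le hle
    rcases hx3 with h | h | h
    · left
      exact h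
    · right
      exact h
    · exfalso
      have h1 : n ∣ Q.index := (Dvd.intro_left m h.symm).trans hdvd
      have h2 := Nat.Coprime.eq_one_of_dvd qi.symm h1
      omega
  · intro h
    have hdm : (Subgroup.centralizer ({x} : Set G)).index ∣ m := by
      rcases h with h | h
      · rw [h]
        exact one_dvd _
      · rw [h]
    have h1 := relIndex_dvd_index_of_normal_right (Subgroup.centralizer ({x} : Set G)) Q
    have h2 : (Subgroup.centralizer ({x} : Set G)).relIndex Q ∣ Nat.card Q :=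
      Subgroup.relIndex_dvd_card _ _
    have hr : ((Subgroup.centralizer ({x} : Set G)).relIndex Q).Coprime m :=
      Nat.Coprime.coprime_dvd_left h2 qm
    have h3 := Nat.Coprime.eq_one_of_dvd hr (h1.trans hdm)
    rw [Subgroup.relIndex_eq_one] at h3
    rw [Subgroup.mem_centralizer_iff]
    intro q hq
    exact Subgroup.mem_centralizer_singleton_iff.mp (h3 hq)

end Cfsg.Agent.Lib.Helper10.CS3
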