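import Mathlib
import Cfsg.Agent.Lib.Helper79.CS3.EndDefs

/-!
# CS3 (S4284), part END, package [E6]
-/

set_option autoImplicit false

namespace Cfsg.Agent.Lib.Helper10.CS3

open Cfsg.Agent.Lib.Helper81.CS3 Cfsg.Agent.Lib.Helper79.CS3

universe u

theorem pkgE6 : PkgE6.{u} := by
  intro G _ _ m n Q P p hS x hxP hxc
  obtain ⟨⟨hyp, qn, qc, qm, qi, hinf, hsup⟩, pp, pm, pg⟩ := hS
  obtain ⟨-, hm1, hn1, hmn, hrange⟩ := hyp
  haveI := qn
  have hcomp : Subgroup.IsComplement' Q P := by
    apply Subgroup.isComplement'_of_disjoint_and_mul_eq_univ (disjoint_iff.mpr hinf)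
    rw [← Subgroup.normal_mul, hsup, Subgroup.coe_top]
  have hidx : P.index = Nat.card Q := hcomp.index_eq_card
  have hle : P ≤ Subgroup.centralizer ({x} : Set G) := by
    intro y hy
    rw [Subgroup.mem_centralizer_singleton_iff]
    exact (hxc y hy).symm
  have hdvd : (Subgroup.centralizer ({x} : Set G)).index ∣ Nat.card Q := by
    rw [← hidx]
    exact Subgroup.index_dvd_of_le hle
  have hx3 : (Subgroup.centralizer ({x} : Set G)).index ∈ ({1, m, m * n} : Set ℕ) := by
    rw [← hrange]
    exact ⟨x, rfl⟩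
  have hmd : ∀ k : ℕ, (Subgroup.centralizer ({x} : Set G)).index = m * k → False := by
    intro k hk
    have h1 : m ∣ Nat.card Q := (Dvd.intro k hk.symm).trans hdvd
    have h2 := Nat.Coprime.eq_one_of_dvd qm.symm h1
    omega
  rcases hx3 with h | h | h
  · rw [Subgroup.index_eq_one] at h
    exact Subgroup.centralizer_eq_top_iff_subset.mp h (Set.mem_singleton x)
  · exact (hmd 1 (by rw [h, mul_one])).elim
  · exact (hmd n h).elim

end Cfsg.Agent.Lib.Helper10.CS3
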